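import Groth.Agent.Lib.ModelFibre.TensorField
import Groth.Agent.Lib.GrpQ.SmoothPt
import Groth.Agent.Lib.FEt.NormalCover

/-!
# The field of constants of a normal variety divides degrees of finite covers
-/

universe u

open CategoryTheory Limits AlgebraicGeometry TopologicalSpace Opposite
open scoped TensorProduct

namespace Groth.Agent.Lib.ConstDeg98.Basic

variable {X : Scheme.{u}} [IsIntegral X]

/-- A rational function integral over the ring of global functions of a normal scheme is global. -/
theorem exists_germ_eq_of_isIntegral (hX : Pi1.IsNormalScheme X) {a : X.functionField}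
    (ha : (X.presheaf.germ ⊤ (genericPoint X) trivial).hom.IsIntegralElem a) :
    ∃ s : Γ(X, ⊤), X.presheaf.germ ⊤ (genericPoint X) trivial s = a := by
  let V : {U : X.affineOpens // Nonempty U.1} → X.Opens := fun U => U.1.1
  have hη : ∀ U, genericPoint X ∈ V U := fun U =>
    ((genericPoint_spec X).mem_open_set_iff U.1.1.isOpen).2 (by simpa using ⟨U.2.some.1, U.2.some.2⟩)
  have hex : ∀ U, ∃ s : Γ(X, V U), X.presheaf.germ (V U) (genericPoint X) (hη U) s = a := fun U => by
    haveI : Nonempty (V U) := U.2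
    haveI : IsIntegrallyClosed Γ(X, V U) := FEt.NormalCover.isIntegrallyClosed_sections hX
    haveI := functionField_isFractionRing_of_isAffineOpen X (V U) U.1.2
    have hint : IsIntegral Γ(X, V U) a := by
      obtain ⟨P, hP, hPa⟩ := ha
      refine ⟨P.map (X.presheaf.map (homOfLE (le_top : V U ≤ ⊤)).op).hom, hP.map _, ?_⟩
      rw [Polynomial.eval₂_map]
      convert hPa using 2
      ext s
      exact TopCat.Presheaf.germ_res_apply X.presheaf (homOfLE le_top) (genericPoint X) (hη U) s
    obtain ⟨s, hs⟩ := IsIntegrallyClosed.isIntegral_iff.1 hint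
    exact ⟨s, hs⟩
  choose s hs using hex
  have hcov : (⊤ : X.Opens) ≤ iSup V := fun x _ => by
    obtain ⟨U, hU, hxU, -⟩ := exists_isAffineOpen_mem_and_subset (show x ∈ (⊤ : X.Opens) from trivial)
    exact Opens.mem_iSup.2 ⟨⟨⟨U, hU⟩, ⟨⟨x, hxU⟩⟩⟩, hxU⟩
  obtain ⟨t, ht, -⟩ := TopCat.Sheaf.existsUnique_gluing' X.sheaf V ⊤ (fun U => homOfLE le_top) hcov s
    fun U W => by
      refine germ_injective_of_isIntegral X (genericPoint X) (U := V U ⊓ V W) ⟨hη U, hη W⟩ ?_
      exact ((TopCat.Presheaf.germ_res_apply X.presheaf _ _ _ (s U)).trans (hs U)).trans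
        ((TopCat.Presheaf.germ_res_apply X.presheaf _ _ _ (s W)).trans (hs W)).symm
  refine ⟨t, ?_⟩
  let x : X := Nonempty.some inferInstance
  obtain ⟨U, hU, hxU, -⟩ := exists_isAffineOpen_mem_and_subset (show x ∈ (⊤ : X.Opens) from trivial)
  let W : {U : X.affineOpens // Nonempty U.1} := ⟨⟨U, hU⟩, ⟨⟨x, hxU⟩⟩⟩
  rw [← hs W, ← ht W]
  exact (TopCat.Presheaf.germ_res_apply X.presheaf (homOfLE le_top) (genericPoint X) (hη W) t).symm

/-- Geometric reducedness of the sections over an affine open. -/
theorem isGeometricallyReduced_sections {L : Type u} [Field L] (e : Γ(X, ⊤) ≃+* L) {U : X.Opens}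
    (hU : IsAffineOpen U) [Algebra L Γ(X, U)]
    (he : ∀ s, algebraMap L Γ(X, U) (e s) = X.presheaf.map (homOfLE le_top).op s)
    (hgr : AlgebraicGeometry.IsReduced (pullback X.toSpecΓ
      (Spec.map (CommRingCat.ofHom ((algebraMap L (AlgebraicClosure L)).comp e.toRingHom))))) :
    Algebra.IsGeometricallyReduced L Γ(X, U) := by
  rw [Algebra.isGeometricallyReduced_field_iff]
  let g := Spec.map (CommRingCat.ofHom (algebraMap L (AlgebraicClosure L)))
  let a := Spec.map (CommRingCat.ofHom e.toRingHom : Γ(X, ⊤) ⟶ CommRingCat.of L)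
  haveI : IsIso a := by
    have : IsIso (CommRingCat.ofHom e.toRingHom : Γ(X, ⊤) ⟶ CommRingCat.of L) :=
      (ConcreteCategory.isIso_iff_bijective _).2 e.bijective
    infer_instance
  have hga : Spec.map (CommRingCat.ofHom ((algebraMap L (AlgebraicClosure L)).comp e.toRingHom)) = g ≫ a := by
    rw [← Spec.map_comp]
    rfl
  rw [hga] at hgr
  have hfac : Spec.map (CommRingCat.ofHom (algebraMap L Γ(X, U))) ≫ a = hU.fromSpec ≫ X.toSpecΓ := by
    rw [hU.fromSpec_toSpecΓ, ← Spec.map_comp]
    exact congrArg Spec.map (CommRingCat.hom_ext (RingHom.ext he))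
  haveI : AlgebraicGeometry.IsReduced (pullback (hU.fromSpec ≫ X.toSpecΓ) (g ≫ a)) :=
    isReduced_of_isOpenImmersion ((pullbackRightPullbackFstIso X.toSpecΓ (g ≫ a) hU.fromSpec).inv ≫
      pullback.snd _ _)
  let m : pullback (Spec.map (CommRingCat.ofHom (algebraMap L Γ(X, U)))) g ⟶
      pullback (hU.fromSpec ≫ X.toSpecΓ) (g ≫ a) :=
    pullback.map _ _ _ _ (𝟙 _) (𝟙 _) a (hfac.trans (Category.id_comp _).symm) (Category.id_comp _).symm
  haveI : AlgebraicGeometry.IsReduced (pullback (Spec.map (CommRingCat.ofHom (algebraMap L Γ(X, U)))) g) :=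
    isReduced_of_isOpenImmersion m
  have : AlgebraicGeometry.IsReduced (Spec (CommRingCat.of (Γ(X, U) ⊗[L] AlgebraicClosure L))) :=
    isReduced_of_isOpenImmersion (pullbackSpecIso L Γ(X, U) (AlgebraicClosure L)).inv
  have : _root_.IsReduced (Γ(X, U) ⊗[L] AlgebraicClosure L) :=
    isReduced_of_injective _
      (Scheme.ΓSpecIso (CommRingCat.of (Γ(X, U) ⊗[L] AlgebraicClosure L))).commRingCatIsoToRingEquiv.symm.injective
  exact isReduced_of_injective _ (Algebra.TensorProduct.comm L (AlgebraicClosure L) Γ(X, U)).injective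

/-- Field extensions linearly disjoint from the constants: degrees divide. -/
theorem finrank_dvd (L L' K K' : Type u) [Field L] [Field L'] [Field K] [Field K']
    [Algebra L L'] [Algebra L K] [Algebra K K'] [Algebra L' K'] [Algebra L K']
    [IsScalarTower L K K'] [IsScalarTower L L' K'] [Algebra.IsAlgebraic L L']
    [Algebra.IsGeometricallyReduced L K] (hsep : separableClosure L K = ⊥) :
    Module.finrank L L' ∣ Module.finrank K K' := by
  have h := ModelFibre.TensorField.isField_tensor L K L' hsep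
  let T := K ⊗[L] L'
  have hT : IsField T := (Algebra.TensorProduct.comm L K L').toMulEquiv.isField h
  letI := hT.toField
  let ψ : T →ₐ[K] K' := Algebra.TensorProduct.lift (Algebra.ofId K K') (IsScalarTower.toAlgHom L L' K')
    fun x y => Commute.all _ _
  letI : Algebra T K' := ψ.toRingHom.toAlgebra
  haveI : IsScalarTower K T K' := IsScalarTower.of_algebraMap_eq' ψ.comp_algebraMap.symm
  rw [← Module.finrank_mul_finrank K T K', Module.finrank_baseChange]
  exact dvd_mul_right _ _

end Groth.Agent.Lib.ConstDeg98.Basic
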